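import Mathlib

/-!
# Base change of a closed subscheme along a morphism, topologically
-/

set_option autoImplicit false
set_option linter.style.haveILetI false
universe u
open CategoryTheory CategoryTheory.Limits AlgebraicGeometry TopologicalSpace

namespace Groth.Agent.H7.GeomCnt

/-- a space is irreducible iff its image under an embedding is -/
theorem irreducibleSpace_iff_isIrreducible_range {A B : Type*} [TopologicalSpace A]
    [TopologicalSpace B] {e : A → B} (he : Topology.IsEmbedding e) :
    IrreducibleSpace A ↔ IsIrreducible (Set.range e) := by
  rw [isIrreducible_iff_irreducibleSpace]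
  exact he.toHomeomorph.irreducibleSpace_iff

variable {W X S S' : Scheme.{u}}

/-- the base change of `W → X → S` along `r`, for a closed immersion `W → X`, is irreducible iff the
preimage of `W` in the base change of `X` is -/
theorem irreducibleSpace_pullback_comp_iff (i : W ⟶ X) [IsClosedImmersion i] (g : X ⟶ S)
    (r : S' ⟶ S) :
    IrreducibleSpace ↥(pullback (i ≫ g) r) ↔
      IsIrreducible ((pullback.fst g r) ⁻¹' (Set.range i)) := by
  rw [← Scheme.Pullback.range_snd i (pullback.fst g r),
    ← irreducibleSpace_iff_isIrreducible_range
      (pullback.snd i (pullback.fst g r)).isClosedEmbedding.isEmbedding]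
  exact (pullbackRightPullbackFstIso g r i).symm.hom.homeomorph.irreducibleSpace_iff

end Groth.Agent.H7.GeomCnt
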