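import Mathlib
import Groth.Agent.H20.GenFibreIrred

/-!
# Irreducible components of a space covered by finitely many irreducible closed sets
-/

set_option autoImplicit false
set_option linter.style.haveILetI false
universe u

namespace Groth.Agent.H7.GeomCnt

open Groth.Agent.H20.GenFibre

theorem irreducibleComponents_eq_range {T ι : Type*} [TopologicalSpace T] [Finite ι]
    (W : ι → Set T) (hcl : ∀ i, IsClosed (W i)) (hirr : ∀ i, IsIrreducible (W i))
    (hcov : ∀ t, ∃ i, t ∈ W i) (hne : ∀ i j, W i ⊆ W j → i = j) :
    irreducibleComponents T = Set.range W := by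
  have hsub : ∀ S : Set T, IsIrreducible S → ∃ i, S ⊆ W i := fun S hS =>
    exists_subset_of_isIrreducible_of_subset_iUnion hS W hcl
      (fun t _ => Set.mem_iUnion.mpr (hcov t))
  ext S
  constructor
  · intro hS
    obtain ⟨i, hi⟩ := hsub S hS.1
    exact ⟨i, (hS.eq_of_subset (hirr i) hi).symm⟩
  · rintro ⟨i, rfl⟩
    refine ⟨hirr i, fun S hS hWS => ?_⟩
    obtain ⟨j, hj⟩ := hsub S hS
    have := hne i j (hWS.trans hj)
    subst this
    exact hj

theorem encard_irreducibleComponents_eq {T ι : Type*} [TopologicalSpace T] [Finite ι]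
    (W : ι → Set T) (hcl : ∀ i, IsClosed (W i)) (hirr : ∀ i, IsIrreducible (W i))
    (hcov : ∀ t, ∃ i, t ∈ W i) (hne : ∀ i j, W i ⊆ W j → i = j) :
    (irreducibleComponents T).encard = ENat.card ι := by
  rw [irreducibleComponents_eq_range W hcl hirr hcov hne]
  have hinj : Function.Injective W := fun i j hij => hne i j hij.le
  rw [← Set.image_univ, hinj.encard_image, Set.encard_univ]

end Groth.Agent.H7.GeomCnt
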