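import Mathlib
import Groth.Agent.H7.GeomIrr.SchGI
import Groth.Agent.H7.GeomCnt.ClosedSub
import Groth.Agent.H7.GeomCnt.CompTop

/-!
# Generic constancy of the number of geometric irreducible components, core step
-/

set_option autoImplicit false
set_option linter.style.haveILetI false
universe u
open CategoryTheory CategoryTheory.Limits AlgebraicGeometry TopologicalSpace

namespace Groth.Agent.H7.GeomCnt

open Groth.Agent.H7.GeomIrr Groth.Agent.H20.GenFibre

variable {X Y : Scheme.{u}} (f : X ⟶ Y)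

/-- **EGA IV 9.7.7 for a closed subset.** -/
theorem exists_open_isIrreducible_preimage_closed [IrreducibleSpace ↥Y] [LocallyOfFiniteType f]
    [QuasiCompact f] (T : Set X) (hT : IsClosed T)
    (h : ∀ (Ω : Type u) [Field Ω] (r : Spec (CommRingCat.of Ω) ⟶ Y),
      (∀ t, r t = genericPoint ↥Y) → IsIrreducible ((pullback.fst f r) ⁻¹' T)) :
    ∃ V : Y.Opens, (V : Set ↥Y).Nonempty ∧ ∀ (Ω : Type u) [Field Ω]
      (r : Spec (CommRingCat.of Ω) ⟶ Y), (∀ t, r t ∈ V) →
        IsIrreducible ((pullback.fst f r) ⁻¹' T) := by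
  let I := Scheme.IdealSheafData.vanishingIdeal ⟨T, hT⟩
  have hrange : Set.range I.subschemeι = T := by
    rw [Scheme.IdealSheafData.range_subschemeι]
    exact Scheme.IdealSheafData.coe_support_vanishingIdeal _
  have hgi : GeometricallyIrreducible ((I.subschemeι ≫ f).fiberToSpecResidueField
      (genericPoint ↥Y)) := by
    apply geometricallyIrreducible_fiber_of_forall
    intro Ω _ r hr
    rw [irreducibleSpace_pullback_comp_iff, hrange]
    exact h Ω r hr
  obtain ⟨V, hVne, H⟩ := exists_open_irreducibleSpace_pullback (I.subschemeι ≫ f) hgi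
  refine ⟨V, hVne, fun Ω _ r hr => ?_⟩
  have := H Ω r hr
  rwa [irreducibleSpace_pullback_comp_iff, hrange] at this

/-- the preimage of a closed set under a homeomorphism-like iso -/
theorem isIrreducible_preimage_iso_iff {P Q : Scheme.{u}} (e : P ≅ Q) (S : Set Q) :
    IsIrreducible (e.hom ⁻¹' S) ↔ IsIrreducible S := by
  have h : e.hom.homeomorph '' (e.hom ⁻¹' S) = S :=
    Set.image_preimage_eq _ e.hom.homeomorph.surjective
  constructor
  · intro hS
    rw [← h]
    exact hS.image _ e.hom.homeomorph.continuous.continuousOn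
  · intro hS
    have h2 : e.hom ⁻¹' S = e.hom.homeomorph.symm '' S := by
      ext x
      simp only [Set.mem_preimage, Set.mem_image]
      constructor
      · intro hx
        exact ⟨e.hom x, hx, e.hom.homeomorph.symm_apply_apply x⟩
      · rintro ⟨y, hy, rfl⟩
        have : e.hom (e.hom.homeomorph.symm y) = y := e.hom.homeomorph.apply_symm_apply y
        rw [this]
        exact hy
    rw [h2]
    exact hS.image _ e.hom.homeomorph.symm.continuous.continuousOn

/-- from geometric irreducibility of a component of the fibre to irreducibility of the preimages of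
its closure -/
theorem isIrreducible_preimage_closure_of_component (y : Y) (Z : Set ↥(f.fiber y)) (hZ : IsClosed Z)
    (hgi : GeometricallyIrreducible ((Scheme.IdealSheafData.vanishingIdeal
      (⟨Z, hZ⟩ : Closeds _)).subschemeι ≫ f.fiberToSpecResidueField y))
    (Ω : Type u) [Field Ω] (r : Spec (CommRingCat.of Ω) ⟶ Y) (hr : ∀ t, r t = y) :
    IsIrreducible ((pullback.fst f r) ⁻¹' (closure (f.fiberι y '' Z))) := by
  obtain ⟨⟨x, φ⟩, rfl⟩ := (Scheme.SpecToEquivOfField Ω Y).symm.surjective r
  have hx : x = y := by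
    have := hr default
    simpa using this
  subst hx
  let I := Scheme.IdealSheafData.vanishingIdeal (⟨Z, hZ⟩ : Closeds ↥(f.fiber x))
  have hrange : Set.range I.subschemeι = Z := by
    rw [Scheme.IdealSheafData.range_subschemeι]
    exact Scheme.IdealSheafData.coe_support_vanishingIdeal _
  have h1 : IrreducibleSpace ↥(pullback (I.subschemeι ≫ f.fiberToSpecResidueField x)
      (Spec.map φ)) := pullback_of_geometrically hgi.1 Ω (Spec.map φ)
  rw [irreducibleSpace_pullback_comp_iff, hrange] at h1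
  let e := pullbackLeftPullbackSndIso f (Y.fromSpecResidueField x) (Spec.map φ)
  have hpre : (f.fiberι x) ⁻¹' (closure (f.fiberι x '' Z)) = Z := by
    rw [← (f.fiberι x).isEmbedding.closure_eq_preimage_closure_image, hZ.closure_eq]
  have h2 : e.hom ⁻¹' ((pullback.fst f (Spec.map φ ≫ Y.fromSpecResidueField x)) ⁻¹'
      (closure (f.fiberι x '' Z))) =
      (pullback.fst (f.fiberToSpecResidueField x) (Spec.map φ)) ⁻¹' Z := by
    have hcomp : ⇑(pullback.fst f (Spec.map φ ≫ Y.fromSpecResidueField x)) ∘ ⇑e.hom =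
        ⇑(f.fiberι x) ∘ ⇑(pullback.fst (f.fiberToSpecResidueField x) (Spec.map φ)) := by
      have := pullbackLeftPullbackSndIso_hom_fst f (Y.fromSpecResidueField x) (Spec.map φ)
      funext z
      have h3 := congrArg (fun g : _ ⟶ X => g z) this
      simp only [Scheme.Hom.comp_base, TopCat.coe_comp, Function.comp_apply] at h3
      exact h3
    ext z
    have hz : (pullback.fst f (Spec.map φ ≫ Y.fromSpecResidueField x)) (e.hom z) =
        (f.fiberι x) ((pullback.fst (f.fiberToSpecResidueField x) (Spec.map φ)) z) :=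
      congrFun hcomp z
    rw [Set.mem_preimage, Set.mem_preimage, hz, ← Set.mem_preimage, hpre]
    exact Iff.rfl
  change IsIrreducible ((pullback.fst f (Spec.map φ ≫ Y.fromSpecResidueField x)) ⁻¹' _)
  rw [← isIrreducible_preimage_iso_iff e, h2]
  exact h1

/-- a nonempty relatively open subset of an irreducible set is dense in it -/
theorem subset_closure_inter_of_isIrreducible {T : Type*} [TopologicalSpace T] {Z O : Set T}
    (hZ : IsIrreducible Z) (hO : IsOpen O) (hne : (Z ∩ O).Nonempty) : Z ⊆ closure (O ∩ Z) := by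
  intro z hz
  by_contra hcon
  obtain ⟨w, hwZ, hwO, hwc⟩ := hZ.isPreirreducible O (closure (O ∩ Z))ᶜ hO
    isClosed_closure.isOpen_compl hne ⟨z, hz, hcon⟩
  exact hwc (subset_closure ⟨hwO, hwZ⟩)

/-- **Generic constancy of the number of irreducible components of geometric fibres**, when the
irreducible components of the generic fibre are geometrically irreducible. -/
theorem exists_open_encard_eq_of_components [IrreducibleSpace ↥Y] [LocallyOfFiniteType f]
    [QuasiCompact f]
    (hcomp : ∀ (Z : Set ↥(f.fiber (genericPoint ↥Y)))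
      (hZ : Z ∈ irreducibleComponents ↥(f.fiber (genericPoint ↥Y))),
      GeometricallyIrreducible ((Scheme.IdealSheafData.vanishingIdeal
        (⟨Z, isClosed_of_mem_irreducibleComponents Z hZ⟩ : Closeds _)).subschemeι ≫
          f.fiberToSpecResidueField (genericPoint ↥Y))) :
    ∃ V : Y.Opens, (V : Set ↥Y).Nonempty ∧ ∀ (Ω : Type u) [Field Ω]
      (r : Spec (CommRingCat.of Ω) ⟶ Y), (∀ t, r t ∈ V) →
        (irreducibleComponents ↥(pullback f r)).encard =
          ENat.card ↥(irreducibleComponents ↥(f.fiber (genericPoint ↥Y))) := by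
  classical
  set η := genericPoint ↥Y with hη
  -- the generic fibre is a noetherian space
  haveI : QuasiCompact (f.fiberToSpecResidueField η) :=
    inferInstanceAs (QuasiCompact (pullback.snd f (Y.fromSpecResidueField η)))
  haveI : LocallyOfFiniteType (f.fiberToSpecResidueField η) :=
    inferInstanceAs (LocallyOfFiniteType (pullback.snd f (Y.fromSpecResidueField η)))
  haveI : IsLocallyNoetherian (f.fiber η) :=
    LocallyOfFiniteType.isLocallyNoetherian (f.fiberToSpecResidueField η)
  haveI : CompactSpace (f.fiber η) := by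
    have := (quasiCompact_iff_compactSpace (f := f.fiberToSpecResidueField η)).mp inferInstance
    exact this
  haveI : IsNoetherian (f.fiber η) := {}
  have hfin : (irreducibleComponents ↥(f.fiber η)).Finite :=
    NoetherianSpace.finite_irreducibleComponents
  haveI : Finite ↥(irreducibleComponents ↥(f.fiber η)) := hfin.to_subtype
  let ι := ↥(irreducibleComponents ↥(f.fiber η))
  let T : ι → Set X := fun Z => closure (f.fiberι η '' Z.1)
  have hZcl : ∀ Z : ι, IsClosed Z.1 := fun Z => isClosed_of_mem_irreducibleComponents Z.1 Z.2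
  have hpre : ∀ Z : ι, (f.fiberι η) ⁻¹' (T Z) = Z.1 := fun Z => by
    change (f.fiberι η) ⁻¹' (closure (f.fiberι η '' Z.1)) = Z.1
    rw [← (f.fiberι η).isEmbedding.closure_eq_preimage_closure_image, (hZcl Z).closure_eq]
  -- (c) irreducibility of the preimages
  have hc : ∀ Z : ι, ∃ V : Set ↥Y, IsOpen V ∧ V.Nonempty ∧ ∀ y ∈ V, ∀ (Ω : Type u) [Field Ω]
      (r : Spec (CommRingCat.of Ω) ⟶ Y), (∀ t, r t = y) →
        IsIrreducible ((pullback.fst f r) ⁻¹' (T Z)) := by
    intro Z
    obtain ⟨V, hVne, HV⟩ := exists_open_isIrreducible_preimage_closed f (T Z) isClosed_closure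
      (fun Ω _ r hr => isIrreducible_preimage_closure_of_component f η Z.1 (hZcl Z)
        (hcomp Z.1 Z.2) Ω r hr)
    exact ⟨V, V.isOpen, hVne, fun y hy Ω _ r hr => HV Ω r (fun t => by rw [hr t]; exact hy)⟩
  obtain ⟨V₁, hV₁o, hV₁ne, hV₁⟩ := exists_open_forall_finite (Y := ↥Y) (S := (Set.univ : Set ι))
    Set.finite_univ (fun Z y => ∀ (Ω : Type u) [Field Ω]
      (r : Spec (CommRingCat.of Ω) ⟶ Y), (∀ t, r t = y) →
        IsIrreducible ((pullback.fst f r) ⁻¹' (T Z))) (fun Z _ => hc Z)
  -- (d) the closures cover generically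
  obtain ⟨V₀, hV₀ne, hV₀⟩ := exists_open_preimage_subset_closure_fiber f
  have hcl : closure (f ⁻¹' {η}) ⊆ ⋃ Z : ι, T Z := by
    apply closure_minimal
    · intro x hx
      rw [← f.range_fiberι η] at hx
      obtain ⟨w, rfl⟩ := hx
      obtain ⟨Z, hZ, hwZ⟩ := exists_mem_irreducibleComponents_subset_of_isIrreducible {w}
        isIrreducible_singleton
      exact Set.mem_iUnion.mpr ⟨⟨Z, hZ⟩, subset_closure ⟨w, hwZ rfl, rfl⟩⟩
    · exact isClosed_iUnion_of_finite fun Z => isClosed_closure
  -- (e) non-containment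
  have he : ∀ p : ι × ι, ∃ V : Set ↥Y, IsOpen V ∧ V.Nonempty ∧ ∀ y ∈ V, p.1 ≠ p.2 →
      ∀ O : Set X, IsOpen O → O ∩ (T p.1 ∩ f ⁻¹' {y}) ⊆ T p.2 → O ∩ (T p.1 ∩ f ⁻¹' {y}) = ∅ := by
    rintro ⟨Z, Z'⟩
    by_cases hZZ : Z = Z'
    · exact ⟨Set.univ, isOpen_univ, Set.univ_nonempty, fun y _ hne => absurd hZZ hne⟩
    · obtain ⟨V, hVne, HV⟩ := exists_open_nowhereDense_in_closed f (T Z) (T Z') isClosed_closure
        isClosed_closure (by
          intro O hO hsub
          by_contra hne
          obtain ⟨x, hxO, hxT, hxη⟩ := Set.nonempty_iff_ne_empty.mpr hne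
          rw [← f.range_fiberι η] at hxη
          obtain ⟨w, rfl⟩ := hxη
          have hwZ : w ∈ Z.1 := by rw [← hpre Z]; exact hxT
          have hOpen : IsOpen ((f.fiberι η) ⁻¹' O) := hO.preimage (f.fiberι η).continuous
          have hdense := subset_closure_inter_of_isIrreducible Z.2.1 hOpen ⟨w, hwZ, hxO⟩
          have hsub' : (f.fiberι η) ⁻¹' O ∩ Z.1 ⊆ Z'.1 := by
            rintro v ⟨hvO, hvZ⟩
            rw [← hpre Z']
            apply hsub
            refine ⟨hvO, ?_, ?_⟩
            · have : v ∈ (f.fiberι η) ⁻¹' (T Z) := by rw [hpre Z]; exact hvZ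
              exact this
            · have := f.range_fiberι η ▸ Set.mem_range_self v
              exact this
          have hZZ' : Z.1 ⊆ Z'.1 :=
            hdense.trans (closure_minimal hsub' (hZcl Z'))
          exact hZZ (Subtype.ext (Z.2.eq_of_subset Z'.2.1 hZZ')))
      exact ⟨V, V.isOpen, hVne, fun y hy _ => HV y hy⟩
  obtain ⟨V₂, hV₂o, hV₂ne, hV₂⟩ := exists_open_forall_finite (Y := ↥Y)
    (S := (Set.univ : Set (ι × ι))) Set.finite_univ
    (fun p y => p.1 ≠ p.2 → ∀ O : Set X, IsOpen O → O ∩ (T p.1 ∩ f ⁻¹' {y}) ⊆ T p.2 →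
      O ∩ (T p.1 ∩ f ⁻¹' {y}) = ∅) (fun p _ => he p)
  refine ⟨(⟨V₁, hV₁o⟩ ⊓ V₀) ⊓ ⟨V₂, hV₂o⟩, ?_, ?_⟩
  · exact nonempty_preirreducible_inter (hV₁o.inter V₀.isOpen) hV₂o
      (nonempty_preirreducible_inter hV₁o V₀.isOpen hV₁ne hV₀ne) hV₂ne
  intro Ω _ r hr
  obtain ⟨⟨hy1, hy0⟩, hy2⟩ := hr default
  set y := r default with hy
  have hry : ∀ t, r t = y := fun t => by rw [hy, Subsingleton.elim t default]
  have hpt : ∀ z : ↥(pullback f r), f ((pullback.fst f r) z) = y := by
    intro z
    have := congrArg (fun g => g z) (congrArg (fun g : pullback f r ⟶ Y => (g : _ → _))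
      (pullback.condition (f := f) (g := r)))
    simp only [Scheme.Hom.comp_base, TopCat.coe_comp, Function.comp_apply] at this
    rw [this, hry]
  refine encard_irreducibleComponents_eq (fun Z : ι => (pullback.fst f r) ⁻¹' (T Z))
    (fun Z => isClosed_closure.preimage (pullback.fst f r).continuous)
    (fun Z => hV₁ Z (Set.mem_univ _) y hy1 Ω r hry) ?_ ?_
  · intro z
    have hx : (pullback.fst f r) z ∈ closure (f ⁻¹' {η}) := hV₀ _ (by rw [hpt z]; exact hy0)
    obtain ⟨Z, hZ⟩ := Set.mem_iUnion.mp (hcl hx)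
    exact ⟨Z, hZ⟩
  · intro Z Z' hsub
    by_contra hne
    have hempty := hV₂ (Z, Z') (Set.mem_univ _) y hy2 hne Set.univ isOpen_univ (by
      rintro x ⟨-, hxT, hxy⟩
      obtain ⟨z, hz, -⟩ := Scheme.Pullback.exists_preimage_pullback (f := f) (g := r) x default
        (by rw [hxy])
      have : z ∈ (pullback.fst f r) ⁻¹' (T Z') := hsub (by
        change (pullback.fst f r) z ∈ T Z
        rw [hz]; exact hxT)
      change (pullback.fst f r) z ∈ T Z' at this
      rwa [hz] at this)
    obtain ⟨z, hz⟩ := (hV₁ Z (Set.mem_univ _) y hy1 Ω r hry).nonempty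
    have : (pullback.fst f r) z ∈ Set.univ ∩ (T Z ∩ f ⁻¹' {y}) :=
      ⟨Set.mem_univ _, hz, hpt z⟩
    rw [hempty] at this
    exact this

end Groth.Agent.H7.GeomCnt
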