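import Mathlib
import Groth.Agent.H7.GeomCnt.CntCore
import Groth.Agent.H7.GeomFibreBaseChange
import Groth.Agent.S1357

/-!
# Generic constancy of the number of geometric irreducible components (EGA IV 9.7.8)
-/

set_option autoImplicit false
set_option linter.style.haveILetI false
universe u
open CategoryTheory CategoryTheory.Limits AlgebraicGeometry TopologicalSpace

namespace Groth.Agent.H7.GeomCnt

open Groth.Agent.H7.GeomIrr

/-- homeomorphic spaces have the same number of irreducible components -/
theorem encard_irreducibleComponents_homeomorph {A B : Type*} [TopologicalSpace A]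
    [TopologicalSpace B] (e : A ≃ₜ B) :
    (irreducibleComponents A).encard = (irreducibleComponents B).encard :=
  (Set.encard_congr (irreducibleComponentsEquivOfIsPreirreducibleFiber e e.continuous e.isOpenMap
    (fun _ => (Set.subsingleton_singleton.preimage e.injective).isPreirreducible)
    e.surjective).toEquiv).symm

variable {X Y : Scheme.{u}} (f : X ⟶ Y)

/-- the geometric point `Spec κ(y)^sep ⟶ Y` -/
noncomputable abbrev geomPt (y : Y) :
    Spec (CommRingCat.of (SeparableClosure (Y.residueField y))) ⟶ Y :=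
  Spec.map (CommRingCat.ofHom
    (algebraMap (Y.residueField y) (SeparableClosure (Y.residueField y)))) ≫
      Y.fromSpecResidueField y

theorem geomPt_apply (y : Y) (t) : geomPt y t = y := by
  simp only [geomPt, Scheme.Hom.comp_apply]
  exact Scheme.fromSpecResidueField_apply y _

theorem nGeomIrredComp_eq_encard (y : Y) :
    MoreMor.nGeomIrredComp f y = (irreducibleComponents ↥(pullback f (geomPt y))).encard := by
  unfold MoreMor.nGeomIrredComp
  exact encard_irreducibleComponents_homeomorph
    (Groth.Agent.H7.isPullback_geomFiber f y).isoPullback.hom.homeomorph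

/-- (CNT′) -/
theorem exists_open_nGeomIrredComp_eq_of_components [IrreducibleSpace ↥Y] [LocallyOfFiniteType f]
    [QuasiCompact f]
    (hcomp : ∀ (Z : Set ↥(f.fiber (genericPoint ↥Y)))
      (hZ : Z ∈ irreducibleComponents ↥(f.fiber (genericPoint ↥Y))),
      GeometricallyIrreducible ((Scheme.IdealSheafData.vanishingIdeal
        (⟨Z, isClosed_of_mem_irreducibleComponents Z hZ⟩ : Closeds _)).subschemeι ≫
          f.fiberToSpecResidueField (genericPoint ↥Y))) :
    ∃ V : Y.Opens, (V : Set ↥Y).Nonempty ∧ ∀ y ∈ V,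
      MoreMor.nGeomIrredComp f y = MoreMor.nGeomIrredComp f (genericPoint ↥Y) := by
  obtain ⟨V, hVne, H⟩ := exists_open_encard_eq_of_components f hcomp
  refine ⟨V, hVne, fun y hy => ?_⟩
  have hη : genericPoint ↥Y ∈ V := by
    obtain ⟨v, hv⟩ := hVne
    exact ((genericPoint_spec ↥Y).mem_open_set_iff V.isOpen).mpr ⟨v, Set.mem_univ _, hv⟩
  rw [nGeomIrredComp_eq_encard, nGeomIrredComp_eq_encard,
    H _ (geomPt y) (fun t => by rw [geomPt_apply]; exact hy),
    H _ (geomPt (genericPoint ↥Y)) (fun t => by rw [geomPt_apply]; exact hη)]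

/-- the image of the generic point under an open continuous map of irreducible spaces is the
generic point -/
theorem map_genericPoint_of_isOpenMap {Y' : Scheme.{u}} [IrreducibleSpace ↥Y] [IrreducibleSpace ↥Y']
    (h : Y' ⟶ Y) (hopen : IsOpenMap h) : h (genericPoint ↥Y') = genericPoint ↥Y := by
  have h1 : IsGenericPoint (h (genericPoint ↥Y')) (closure (h '' Set.univ)) :=
    (genericPoint_spec ↥Y').image h.continuous
  have h2 : closure (h '' Set.univ) = Set.univ := by
    have hne : (h '' Set.univ).Nonempty := ⟨h (genericPoint ↥Y'), genericPoint ↥Y', trivial, rfl⟩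
    exact ((hopen _ isOpen_univ).dense hne).closure_eq
  rw [h2] at h1
  exact h1.eq (genericPoint_spec ↥Y)

/-- **(CNT)** generic constancy of the number of geometric irreducible components -/
theorem exists_open_nGeomIrredComp_eq [IrreducibleSpace ↥Y] [LocallyOfFiniteType f]
    [QuasiCompact f] :
    ∃ V : Y.Opens, (V : Set ↥Y).Nonempty ∧ ∀ y ∈ V,
      MoreMor.nGeomIrredComp f y = MoreMor.nGeomIrredComp f (genericPoint ↥Y) := by
  obtain ⟨V, Y', g, hY', hVne, haff, hsurj, hfin, het, hcomp⟩ := Groth.Agent.S1357.result f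
  obtain ⟨V', hV'ne, H⟩ :=
    exists_open_nGeomIrredComp_eq_of_components (pullback.snd f (g ≫ V.ι)) hcomp
  have hbc : ∀ y', MoreMor.nGeomIrredComp (pullback.snd f (g ≫ V.ι)) y' =
      MoreMor.nGeomIrredComp f ((g ≫ V.ι) y') := fun y' =>
    Groth.Agent.H7.nGeomIrredComp_eq_of_isPullback f (pullback.snd f (g ≫ V.ι))
      (pullback.fst f (g ≫ V.ι)) (g ≫ V.ι) (IsPullback.of_hasPullback _ _) y'
  have hopen : IsOpenMap (g ≫ V.ι) := (g ≫ V.ι).isOpenMap
  have hgen := map_genericPoint_of_isOpenMap (g ≫ V.ι) hopen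
  refine ⟨⟨(g ≫ V.ι) '' V', hopen _ V'.isOpen⟩, hV'ne.image _, ?_⟩
  rintro _ ⟨y', hy', rfl⟩
  rw [← hbc, H y' hy', hbc, hgen]

end Groth.Agent.H7.GeomCnt
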